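import Groth.Agent.IndexLift.Alter.Main
import Groth.Agent.HodgeCI.Hirzebruch
import Groth.Agent.GenusOneTwist.Chart
import Groth.Agent.HypPoly.Main
import Groth.Agent.QsNorm.Point
import Groth.Agent.WeilLib.Trdeg

/-!
Closed points and Euler characteristics of projective hypersurfaces.
-/

set_option autoImplicit false
set_option backward.isDefEq.respectTransparency false
set_option backward.isDefEq.respectTransparency.types false
set_option linter.style.haveILetI false

universe u

open CategoryTheory CategoryTheory.Limits AlgebraicGeometry TopologicalSpace Opposite MvPolynomial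

noncomputable section

namespace Groth.Agent.IndexHyp

open Groth.Agent.GenusOneTwist

variable {K : Type u} [Field K] {n d : ℕ}

/-- The degrees of closed points of a hypersurface are degrees of extensions with a zero. -/
theorem indexSubgroup_le (G : LefPen.Form n K d) :
    Curv2.indexSubgroup (str G) ≤ AddSubgroup.closure {m : ℤ | ∃ (L : Type u) (_ : Field L) (_ : Algebra K L),
      FiniteDimensional K L ∧ m = (Module.finrank K L : ℤ) ∧
        ∃ x : Fin (n + 1) → L, x ≠ 0 ∧ MvPolynomial.aeval x G.1 = 0} := by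
  refine (AddSubgroup.closure_le _).2 ?_
  rintro _ ⟨z, -, rfl⟩
  show ((str G).residueDegree z : ℤ) ∈ AddSubgroup.closure _
  rw [CycFin.residueDegree_eq_finrank (str G) z]
  letI := (WeilLib.kStr (str G) z).toAlgebra
  by_cases h0 : Module.finrank K ((Hyp G).residueField z) = 0
  · have e : (@Module.finrank K ((Hyp G).residueField z) _ _ (WeilLib.kStr (str G) z).toAlgebra.toModule : ℤ) = 0 :=
      by exact_mod_cast h0
    exact e ▸ AddSubgroup.zero_mem _
  obtain ⟨l, hl⟩ := exists_mem_hch G z
  obtain ⟨e, he, -⟩ := exists_chart_equiv G l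
  let π : MvPolynomial (Fin (n + 1)) K →+* (Hyp G).residueField z :=
    (((Hyp G).evaluation (hch G l) z hl).hom.comp e.toRingHom).comp
      ((Ideal.Quotient.mk _).comp (dehPoly (K := K) l).toRingHom)
  have hπ : π = (MvPolynomial.aeval fun j => π (X j)).toRingHom := MvPolynomial.ringHom_ext
    (fun c => by
      rw [AlgHom.toRingHom_eq_coe, RingHom.coe_coe, aeval_C]
      show ((Hyp G).evaluation (hch G l) z hl).hom (e (Ideal.Quotient.mk _ (dehPoly l (C c)))) = _
      rw [show dehPoly (K := K) l (C c) = C c by simp [dehPoly],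
        show Ideal.Quotient.mk _ (C c) = algebraMap K (_ ⧸ Ideal.span {dehPoly l G.1}) c from rfl, he]
      exact DFunLike.congr_fun (WeilLib.evaluation_comp_secStr (str G) hl) c)
    (fun j => by rw [AlgHom.toRingHom_eq_coe, RingHom.coe_coe, aeval_X])
  refine AddSubgroup.subset_closure ⟨(Hyp G).residueField z, inferInstance, (WeilLib.kStr (str G) z).toAlgebra,
    Module.finite_of_finrank_pos (Nat.pos_of_ne_zero h0), rfl, fun j => π (X j), fun h => ?_, ?_⟩
  · have h1 : π (X l) = 1 := by
      show ((Hyp G).evaluation (hch G l) z hl).hom (e (Ideal.Quotient.mk _ (dehPoly l (X l)))) = 1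
      rw [dehPoly_self, map_one, map_one, map_one]
    exact one_ne_zero (h1.symm.trans (congrFun h l))
  · rw [← RingHom.coe_coe, ← AlgHom.toRingHom_eq_coe, ← hπ]
    show ((Hyp G).evaluation (hch G l) z hl).hom (e (Ideal.Quotient.mk _ (dehPoly l G.1))) = 0
    rw [Ideal.Quotient.eq_zero_iff_mem.2 (Ideal.mem_span_singleton_self _), map_zero, map_zero]

/-- The Euler characteristic of a twist restricted to a hypersurface. -/
theorem exists_coh_euler (G : LefPen.Form n K d) (hG : G ≠ 0) [(Hyp G).Over (Spec (CommRingCat.of K))]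
    (hover : Hyp G ↘ Spec (CommRingCat.of K) = str G) (hn : 1 ≤ n) (a : ℤ) :
    ∃ E : (Hyp G).Modules, Coh.IsCoh E ∧
      Curv2.euler K (Hyp G) E = Ring.choose (a + n) n - Ring.choose (a + n - d) n := by
  haveI : IsProper (CohB1.ProjSpace n K ↘ Spec (CommRingCat.of K)) := ProjMor.isProper_toSpec n K
  haveI := CurveRR.isNoetherian_of_proper K (CohB1.ProjSpace n K)
  have hinv : ∀ c : ℤ, PicF.IsInvertible (Twist.twistProjSpace n K c) :=
    fun c => GrT.isInvertible_twist_of_gens (PlaneCurve.hasFracGens _)
  have hfl : FlatMod.IsFinLocFree (Twist.twistProjSpace n K a) :=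
    SGA6Ext.finLocFree_of_rank (CurveRR.isFinLocFreeOfRank_one (hinv a))
  obtain ⟨t⟩ := PlaneCurve.nonempty_ideal_iso_twist G hG
  have h := HodgeCI.euler_res (k := K) (LefPen.hypIdeal G) hover (FieldAmple.isInvertible_of_iso t.symm (hinv _))
    (Twist.twistProjSpace n K a) hfl
  obtain ⟨e⟩ := TwistPairing.nonempty_twist_twist (R := K) n (-(d : ℤ)) a (a - d) (by ring)
  rw [CurveRR.euler_eq_of_iso (k := K) (PicGrp.tensorModIso t (Iso.refl _) ≪≫ e), HypPoly.euler_twist hn a,
    HypPoly.euler_twist hn (a - d)] at h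
  refine ⟨(Scheme.Modules.pullback (LefPen.hypIdeal G).subschemeι).obj (Twist.twistProjSpace n K a),
    Groth.Agent.QC.isCoh_pullback _ (CurveRR.isCoh_of_inv (hinv a)), ?_⟩
  rw [show a + (n : ℤ) - d = a - d + n by ring]
  linarith

end Groth.Agent.IndexHyp
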