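import Groth.Agent.IndexLift.Hyp.Numeric
import Groth.Agent.IndexLift.Hyp.Geom

/-!
The index of a hypersurface over the fraction field of a strictly henselian discrete valuation ring.
-/

set_option autoImplicit false
set_option backward.isDefEq.respectTransparency false
set_option backward.isDefEq.respectTransparency.types false
set_option linter.style.haveILetI false

universe u

open CategoryTheory CategoryTheory.Limits AlgebraicGeometry TopologicalSpace Opposite

noncomputable section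

namespace Groth.Agent.IndexHyp

/-- The group generated by the degrees of extensions with a non-trivial zero. -/
abbrev degGrp {K : Type u} [Field K] {N : ℕ} (F : MvPolynomial (Fin (N + 1)) K) : AddSubgroup ℤ :=
  AddSubgroup.closure {m : ℤ | ∃ (L : Type u) (_ : Field L) (_ : Algebra K L),
      FiniteDimensional K L ∧ m = (Module.finrank K L : ℤ) ∧
        ∃ x : Fin (N + 1) → L, x ≠ 0 ∧ MvPolynomial.aeval x F = 0}

theorem mem_degGrp {K : Type u} [Field K] {N : ℕ} {F : MvPolynomial (Fin (N + 1)) K} (L : Type u) [Field L]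
    [Algebra K L] [FiniteDimensional K L] (x : Fin (N + 1) → L) (hx : x ≠ 0)
    (h : MvPolynomial.aeval x F = 0) : (Module.finrank K L : ℤ) ∈ degGrp F :=
  AddSubgroup.subset_closure ⟨L, inferInstance, inferInstance, inferInstance, rfl, x, hx, h⟩

theorem natDegree_coeff_aeval {K : Type u} [Field K] {N d : ℕ} {F : MvPolynomial (Fin (N + 1)) K}
    (hF : F.IsHomogeneous d) (φ : Fin (N + 1) → Polynomial K) (hφ : ∀ j, (φ j).natDegree ≤ 1) :
    (MvPolynomial.aeval φ F).natDegree ≤ d ∧
      (MvPolynomial.aeval φ F).coeff d = MvPolynomial.eval (fun j => (φ j).coeff 1) F := by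
  classical
  have key : ∀ (m : Fin (N + 1) → ℕ) (s : Finset (Fin (N + 1))),
      (∏ j ∈ s, φ j ^ m j).natDegree ≤ ∑ j ∈ s, m j ∧
        (∏ j ∈ s, φ j ^ m j).coeff (∑ j ∈ s, m j) = ∏ j ∈ s, (φ j).coeff 1 ^ m j := by
    intro m s
    induction s using Finset.induction_on with
    | empty => simp
    | insert a t ha ih =>
      rw [Finset.prod_insert ha, Finset.sum_insert ha, Finset.prod_insert ha]
      have h1 : (φ a ^ m a).natDegree ≤ m a :=
        Polynomial.natDegree_pow_le.trans (by simpa using Nat.mul_le_mul_left (m a) (hφ a))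
      refine ⟨Polynomial.natDegree_mul_le.trans (add_le_add h1 ih.1), ?_⟩
      rw [Polynomial.coeff_mul_add_eq_of_natDegree_le h1 ih.1, ih.2]
      congr 1
      simpa using Polynomial.coeff_pow_of_natDegree_le (m := m a) (hφ a)
  have hmd : ∀ m ∈ F.support, ∑ j, m j = d := fun m hm => by
    rw [hF.degree_eq_sum_deg_support hm]
    exact (Finsupp.sum_fintype m (fun _ e => e) fun _ => rfl).symm
  rw [MvPolynomial.aeval_def, MvPolynomial.eval₂_eq', MvPolynomial.eval_eq']
  refine ⟨Polynomial.natDegree_sum_le_of_forall_le _ _ fun m hm => ?_, ?_⟩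
  · refine (Polynomial.natDegree_C_mul_le _ _).trans ((key _ _).1.trans ?_)
    rw [hmd m hm]
  · rw [Polynomial.finsetSum_coeff]
    refine Finset.sum_congr rfl fun m hm => ?_
    rw [show algebraMap K (Polynomial K) (F.coeff m) = Polynomial.C (F.coeff m) from rfl, Polynomial.coeff_C_mul]
    congr 1
    rw [← (key _ _).2, hmd m hm]

/-- A line meets the hypersurface in a cycle of degree `d`. -/
theorem degree_mem {K : Type u} [Field K] {N d : ℕ} (hN : 1 ≤ N) {F : MvPolynomial (Fin (N + 1)) K}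
    (hF : F.IsHomogeneous d) : (d : ℤ) ∈ degGrp F := by
  classical
  have hone : ∀ x : Fin (N + 1) → K, x ≠ 0 → MvPolynomial.eval x F = 0 → (d : ℤ) ∈ degGrp F := fun x hx h => by
    have h1 := mem_degGrp (F := F) K x hx (by rw [← h]; rfl)
    rw [Module.finrank_self, Nat.cast_one] at h1
    simpa using AddSubgroup.zsmul_mem _ h1 (d : ℤ)
  have h01 : (1 : Fin (N + 1)) ≠ 0 := fun h => by
    have := congrArg Fin.val h
    rw [Fin.val_one', Fin.val_zero, Nat.mod_eq_of_lt (by omega)] at this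
    exact one_ne_zero this
  let φ : Fin (N + 1) → Polynomial K := fun j => if j = 0 then Polynomial.X else if j = 1 then 1 else 0
  obtain ⟨hdeg, hcoeff⟩ := natDegree_coeff_aeval hF φ fun j => by
    show (if j = 0 then Polynomial.X else if j = 1 then 1 else 0 : Polynomial K).natDegree ≤ 1
    split_ifs <;> simp
  let e₀ : Fin (N + 1) → K := fun j => (φ j).coeff 1
  by_cases he : MvPolynomial.eval e₀ F = 0
  · exact hone e₀ (fun h => one_ne_zero ((show e₀ 0 = 1 by simp [e₀, φ]).symm.trans (congrFun h 0))) he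
  have hne : (MvPolynomial.aeval φ F).coeff d ≠ 0 := hcoeff ▸ he
  have hd : (MvPolynomial.aeval φ F).natDegree = d := le_antisymm hdeg (Polynomial.le_natDegree_of_ne_zero hne)
  rw [← hd]
  refine natDegree_mem _ _ (fun L _ _ _ r hr => ?_) fun h => hne (by rw [h, Polynomial.coeff_zero])
  refine mem_degGrp L (fun j => Polynomial.aeval r (φ j)) (fun h => one_ne_zero (α := L) ?_) ?_
  · exact (show Polynomial.aeval r (φ 1) = 1 by simp [φ, h01]).symm.trans (congrFun h 1)
  · rw [← hr]
    exact (DFunLike.congr_fun (MvPolynomial.comp_aeval φ (Polynomial.aeval r)) F).symm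

theorem degGrp_le_map {K K' : Type u} [Field K] [Field K'] (e : K ≃+* K') {N : ℕ}
    (F : MvPolynomial (Fin (N + 1)) K) : degGrp (MvPolynomial.map e.toRingHom F) ≤ degGrp F := by
  refine (AddSubgroup.closure_le _).2 ?_
  rintro _ ⟨L, _, alg, hfd, rfl, x, hx, h0⟩
  haveI := hfd
  letI : Algebra K L := ((algebraMap K' L).comp e.toRingHom).toAlgebra
  letI : Algebra K K' := e.toRingHom.toAlgebra
  haveI : IsScalarTower K K' L := IsScalarTower.of_algebraMap_eq fun _ => rfl
  haveI : Module.Finite K K' := Module.Finite.of_surjective (Algebra.linearMap K K') e.surjective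
  haveI : FiniteDimensional K L := Module.Finite.trans K' L
  have h1 : Module.finrank K L = Module.finrank K' L := by
    rw [← Module.finrank_mul_finrank K K' L,
      ← (LinearEquiv.ofBijective (Algebra.linearMap K K') e.bijective).finrank_eq, Module.finrank_self, one_mul]
  rw [SetLike.mem_coe, ← h1]
  refine mem_degGrp L x hx ?_
  rw [← h0]
  exact (MvPolynomial.aeval_map_algebraMap K' x F).symm

variable {R : Type u} [CommRing R] [IsDomain R] [IsDiscreteValuationRing R] [HenselianLocalRing R]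

theorem hyp_index (hk : IsAlgClosed (IsLocalRing.ResidueField R))
    (halt : ∀ (ℓ : ℕ), ℓ.Prime → (ℓ : IsLocalRing.ResidueField R) ≠ 0 →
      ∀ (Z : Scheme.{u}) (q : Z ⟶ Spec (CommRingCat.of R)) [AlgebraicGeometry.IsIntegral Z] [IsProper q] [Flat q],
        ∃ (Y : Scheme.{u}) (h : Y ⟶ Z) (_ : AlgebraicGeometry.IsIntegral Y),
          (∀ y : Y, IsRegularLocalRing (Y.presheaf.stalk y)) ∧ IsProper h ∧ Surjective h ∧
          h.base (genericPoint Y) = genericPoint Z ∧ h.residueDegree (genericPoint Y) ≠ 0 ∧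
          ¬ ℓ ∣ h.residueDegree (genericPoint Y))
    (d N : ℕ) (hd : 1 ≤ d) (hN : 1 ≤ N) (F : MvPolynomial (Fin (N + 1)) (FractionRing R))
    (hF : F.IsHomogeneous d) (hF0 : F ≠ 0) :
    ∃ c : ℕ, 1 ≤ c ∧ (∀ q : ℕ, q.Prime → q ∣ c → (q : IsLocalRing.ResidueField R) = 0) ∧
      (c : ℤ) * ((((Finset.Icc 1 N).filter (fun δ => δ ∣ d)).gcd (fun δ => d / δ) : ℕ) : ℤ) ∈ degGrp F := by
  let G : LefPen.Form N (FractionRing R) d := ⟨F, (MvPolynomial.mem_homogeneousSubmodule d F).2 hF⟩
  have hG : G ≠ 0 := fun h => hF0 (congrArg Subtype.val h)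
  letI : (GenusOneTwist.Hyp G).Over (Spec (CommRingCat.of (FractionRing R))) := ⟨GenusOneTwist.str G⟩
  haveI : IsProper (CohB1.ProjSpace.toSpec N (FractionRing R)) := ProjMor.isProper_toSpec N _
  haveI : IsProper (GenusOneTwist.Hyp G ↘ Spec (CommRingCat.of (FractionRing R))) :=
    inferInstanceAs (IsProper (GenusOneTwist.str G))
  let S : AddSubgroup ℤ :=
    { carrier := {v | ∃ c : ℕ, 1 ≤ c ∧ (∀ q : ℕ, q.Prime → q ∣ c → (q : IsLocalRing.ResidueField R) = 0) ∧
        (c : ℤ) * v ∈ degGrp F}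
      zero_mem' := ⟨1, le_rfl, fun q hq h => absurd h hq.not_dvd_one, by simp⟩
      add_mem' := by
        rintro v w ⟨a, ha, ha', hav⟩ ⟨b, hb, hb', hbw⟩
        refine ⟨a * b, Nat.mul_pos ha hb, fun q hq h => ((Nat.Prime.dvd_mul hq).1 h).elim (ha' q hq) (hb' q hq), ?_⟩
        rw [show ((a * b : ℕ) : ℤ) * (v + w) = (b : ℤ) • ((a : ℤ) * v) + (a : ℤ) • ((b : ℤ) * w) by
          simp only [smul_eq_mul]; push_cast; ring]
        exact add_mem (zsmul_mem hav _) (zsmul_mem hbw _)
      neg_mem' := by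
        rintro v ⟨a, ha, ha', hav⟩
        exact ⟨a, ha, ha', by rw [mul_neg]; exact neg_mem hav⟩ }
  refine gcd_cofactor_mem S d N hd hN fun b => ?_
  obtain ⟨E, hE, hχ⟩ := exists_coh_euler G hG rfl hN (b - N)
  obtain ⟨c, hc, hc', hmem⟩ := IndexAlt.euler_mem hk halt _ E hE
  refine ⟨c, hc, hc', ?_⟩
  rw [hχ, sub_add_cancel] at hmem
  exact indexSubgroup_le G hmem

theorem main (hk : IsAlgClosed (IsLocalRing.ResidueField R))
    (halt : ∀ (ℓ : ℕ), ℓ.Prime → (ℓ : IsLocalRing.ResidueField R) ≠ 0 →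
      ∀ (Z : Scheme.{u}) (q : Z ⟶ Spec (CommRingCat.of R)) [AlgebraicGeometry.IsIntegral Z] [IsProper q] [Flat q],
        ∃ (Y : Scheme.{u}) (h : Y ⟶ Z) (_ : AlgebraicGeometry.IsIntegral Y),
          (∀ y : Y, IsRegularLocalRing (Y.presheaf.stalk y)) ∧ IsProper h ∧ Surjective h ∧
          h.base (genericPoint Y) = genericPoint Z ∧ h.residueDegree (genericPoint Y) ≠ 0 ∧
          ¬ ℓ ∣ h.residueDegree (genericPoint Y))
    (K : Type u) [Field K] [Algebra R K] [IsFractionRing R K] (d N : ℕ) (hd : 1 ≤ d) (hN : 1 ≤ N)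
    (F : MvPolynomial (Fin (N + 1)) K) (hF : F.IsHomogeneous d) (hF0 : F ≠ 0) :
    letI H := degGrp F
    letI I := (((Finset.Icc 1 N).filter (fun δ => δ ∣ d)).gcd (fun δ => d / δ) : ℕ)
    (∃ c : ℕ, 1 ≤ c ∧ (∀ q : ℕ, q.Prime → q ∣ c → (q : IsLocalRing.ResidueField R) = 0) ∧
      (c : ℤ) * (I : ℤ) ∈ H) ∧
    ((∀ q : ℕ, q.Prime → (q : IsLocalRing.ResidueField R) = 0 → N < q) → (I : ℤ) ∈ H) := by
  set H := degGrp F
  set I := (((Finset.Icc 1 N).filter (fun δ => δ ∣ d)).gcd (fun δ => d / δ) : ℕ)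
  let e : K ≃+* FractionRing R := ((FractionRing.algEquiv R K).symm).toRingEquiv
  have hinj : Function.Injective (MvPolynomial.map (σ := Fin (N + 1)) e.toRingHom) :=
    MvPolynomial.map_injective _ e.injective
  obtain ⟨c, hc, hc', hmem⟩ := hyp_index hk halt d N hd hN _ (hF.map e.toRingHom)
    (fun h => hF0 (hinj (h.trans (map_zero _).symm)))
  have hcI : (c : ℤ) * (I : ℤ) ∈ H := degGrp_le_map e F hmem
  refine ⟨⟨c, hc, hc', hcI⟩, fun hbig => ?_⟩
  have hdH : (d : ℤ) ∈ H := degree_mem hN hF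
  have hId : I ∣ d := (Finset.gcd_dvd (b := 1) (by simp [hN])).trans (by simp)
  have hcop : Nat.Coprime c (d / I) := Nat.coprime_of_dvd fun q hq hqc hqI => by
    have hqN := hbig q hq (hc' q hq hqc)
    have hI0 : I ≠ 0 := fun h => by rw [h, zero_dvd_iff] at hId; omega
    have hI : q * I ∣ d := by
      obtain ⟨m, hm⟩ := hId
      rw [hm, Nat.mul_div_cancel_left m (Nat.pos_of_ne_zero hI0)] at hqI
      exact hm ▸ mul_comm q I ▸ Nat.mul_dvd_mul_left I hqI
    have hall : q * I ∣ I := Finset.dvd_gcd fun δ hδ => by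
      simp only [Finset.mem_filter, Finset.mem_Icc] at hδ
      have hqIδ : Nat.Coprime q δ := (Nat.Prime.coprime_iff_not_dvd hq).2 fun h => by
        have := Nat.le_of_dvd hδ.1.1 h
        omega
      have h1 : q ∣ d / δ := hqIδ.dvd_of_dvd_mul_right (by rw [Nat.div_mul_cancel hδ.2]; exact dvd_of_mul_right_dvd hI)
      have h2 : I ∣ d / δ := Finset.gcd_dvd (by simp [hδ])
      by_cases hqI' : q ∣ I
      · obtain ⟨m, hm⟩ := h2
        have h3 : q * I * δ ∣ d * δ := Nat.mul_dvd_mul_right hI δ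
        have hdδ : d = I * m * δ := by rw [← hm, Nat.div_mul_cancel hδ.2]
        have h4 : q * I ∣ (I * m) * δ := hdδ ▸ hI
        rw [mul_comm q I, mul_assoc] at h4
        have h5 : q ∣ m := hqIδ.dvd_of_dvd_mul_right (Nat.dvd_of_mul_dvd_mul_left (Nat.pos_of_ne_zero hI0) h4)
        rw [hm, mul_comm q I]
        exact Nat.mul_dvd_mul_left I h5
      · exact ((Nat.Prime.coprime_iff_not_dvd hq).2 hqI').mul_dvd_of_dvd_of_dvd h1 h2
    have := Nat.le_of_dvd (Nat.pos_of_ne_zero hI0) hall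
    have := Nat.mul_le_mul_right I hq.two_le
    omega
  have hg : (I : ℤ) = Nat.gcdA c (d / I) * ((c : ℤ) * I) + Nat.gcdB c (d / I) * d := by
    have h1 := Nat.gcd_eq_gcd_ab c (d / I)
    rw [hcop.gcd_eq_one] at h1
    have h2 : (d : ℤ) = (I : ℤ) * ((d / I : ℕ) : ℤ) := by rw [← Nat.cast_mul, Nat.mul_div_cancel' hId]
    rw [h2]
    push_cast at h1 ⊢
    linear_combination (I : ℤ) * h1
  rw [hg]
  exact add_mem (by simpa [smul_eq_mul] using zsmul_mem hcI (Nat.gcdA c (d / I)))
    (by simpa [smul_eq_mul] using zsmul_mem hdH (Nat.gcdB c (d / I)))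

end Groth.Agent.IndexHyp
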