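import Mathlib.RingTheory.Binomial
import Mathlib.GroupTheory.Archimedean
import Mathlib.Algebra.GCDMonoid.Finset
import Mathlib.Data.Nat.Choose.Lucas
import Mathlib.NumberTheory.Padics.PadicVal.Basic
import Mathlib.RingTheory.AdjoinRoot
import Mathlib.RingTheory.UniqueFactorizationDomain.Basic

/-!
The gcd of the Hilbert values of a hypersurface, and degrees of roots.
-/

set_option autoImplicit false

universe u

namespace Groth.Agent.IndexHyp

theorem descend (S : AddSubgroup ℤ) (d N : ℕ)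
    (h : ∀ b : ℤ, Ring.choose b N - Ring.choose (b - d) N ∈ S) :
    ∀ j, j ≤ N → ∀ b : ℤ, Ring.choose b (N - j) - Ring.choose (b - d) (N - j) ∈ S := by
  intro j
  induction j with
  | zero => exact fun _ => h
  | succ j ih =>
    intro hj b
    have h1 := S.sub_mem (ih (by omega) (b + 1)) (ih (by omega) b)
    have hN : N - j = N - (j + 1) + 1 := by omega
    rw [hN, show b + 1 - (d : ℤ) = b - d + 1 by ring, Ring.choose_succ_succ, Ring.choose_succ_succ] at h1
    convert h1 using 1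
    ring

theorem choose_mem (S : AddSubgroup ℤ) (d N : ℕ)
    (h : ∀ b : ℤ, Ring.choose b N - Ring.choose (b - d) N ∈ S) {i : ℕ} (h1 : 1 ≤ i) (h2 : i ≤ N) :
    (d.choose i : ℤ) ∈ S := by
  have h3 := descend S d N h (N - i) (Nat.sub_le _ _) d
  rw [show N - (N - i) = i by omega, sub_self, Ring.choose_zero_pos ℤ (by omega), sub_zero,
    Ring.choose_natCast] at h3
  exact h3

theorem not_dvd_choose_pred {p : ℕ} (hp : p.Prime) : ∀ (k m : ℕ), p ^ k ∣ m → 0 < m →
    ¬ p ∣ (m - 1).choose (p ^ k - 1) := by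
  intro k
  induction k with
  | zero => intro m _ _; simpa using hp.one_lt.ne'
  | succ k ih =>
    intro m hm hm0
    haveI : Fact p.Prime := ⟨hp⟩
    obtain ⟨m', rfl⟩ : p ∣ m := (dvd_pow_self p k.succ_ne_zero).trans hm
    have hp0 := hp.pos
    have hm' : 0 < m' := Nat.pos_of_mul_pos_left hm0
    have hdiv : p ^ k ∣ m' := Nat.dvd_of_mul_dvd_mul_left hp0 (by rwa [← pow_succ'])
    have hk : 0 < p ^ k := pow_pos hp0 k
    have e : ∀ {a : ℕ}, 0 < a → (p * a - 1) % p = p - 1 ∧ (p * a - 1) / p = a - 1 := fun {a} ha => by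
      obtain ⟨b, rfl⟩ := Nat.exists_eq_succ_of_ne_zero ha.ne'
      rw [show p * (b + 1) - 1 = (p - 1) + p * b by rw [Nat.mul_succ]; omega, Nat.add_mul_mod_self_left,
        Nat.mod_eq_of_lt (by omega), Nat.add_mul_div_left _ _ hp0, Nat.div_eq_of_lt (by omega)]
      simp
    obtain ⟨a1, a2⟩ := e hm'
    obtain ⟨b1, b2⟩ := e hk
    rw [← pow_succ'] at b1 b2
    have hL := Choose.choose_modEq_choose_mod_mul_choose_div_nat (n := p * m' - 1) (k := p ^ (k + 1) - 1) (p := p)
    rw [a1, a2, b1, b2, Nat.choose_self, one_mul] at hL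
    intro hdvd
    exact ih m' hdiv hm' ((hL.dvd_iff dvd_rfl).1 hdvd)

theorem not_dvd_choose {p : ℕ} (hp : p.Prime) {d e : ℕ} (hd : 0 < d) {k : ℕ} (hk : p ^ k ∣ d)
    (he : d.factorization p < e + k) : ¬ p ^ e ∣ d.choose (p ^ k) := by
  intro hdvd
  haveI : Fact p.Prime := ⟨hp⟩
  have hpk : 0 < p ^ k := pow_pos hp.pos k
  have h := Nat.add_one_mul_choose_eq (d - 1) (p ^ k - 1)
  rw [show d - 1 + 1 = d by omega, show p ^ k - 1 + 1 = p ^ k by omega] at h
  have h1 : p ^ (e + k) ∣ d * (d - 1).choose (p ^ k - 1) := by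
    rw [h, pow_add]
    exact Nat.mul_dvd_mul hdvd dvd_rfl
  have hcop : Nat.Coprime (p ^ (e + k)) ((d - 1).choose (p ^ k - 1)) :=
    ((Nat.Prime.coprime_iff_not_dvd hp).2 (not_dvd_choose_pred hp k d hk hd)).pow_left _
  exact absurd ((hp.pow_dvd_iff_le_factorization hd.ne').1 (hcop.dvd_of_dvd_mul_right h1)) (by omega)

/-- The common divisors of the first binomial coefficients divide the gcd of the cofactors of the small divisors. -/
theorem dvd_cofactor {g d δ : ℕ} {N : ℕ} (hg : ∀ i, 1 ≤ i → i ≤ N → g ∣ d.choose i) (hd : 0 < d) (hN : 1 ≤ N)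
    (hδ : δ ∣ d) (hδN : δ ≤ N) : g ∣ d / δ := by
  have hδ0 : δ ≠ 0 := fun h => by rw [h, zero_dvd_iff] at hδ; omega
  have hg0 : g ≠ 0 := fun h => by
    have := hg 1 le_rfl hN
    rw [h, zero_dvd_iff, Nat.choose_one_right] at this
    omega
  have hq0 : d / δ ≠ 0 := (Nat.div_pos (Nat.le_of_dvd hd hδ) (Nat.pos_of_ne_zero hδ0)).ne'
  refine (Nat.factorization_le_iff_dvd hg0 hq0).1 fun p => ?_
  by_cases hp : p.Prime
  · rw [Nat.factorization_div hδ, Finsupp.tsub_apply]
    set k := δ.factorization p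
    by_contra hlt
    have hkδ : p ^ k ∣ δ := Nat.ordProj_dvd δ p
    exact not_dvd_choose hp hd (hkδ.trans hδ) (e := g.factorization p) (by omega)
      ((Nat.ordProj_dvd g p).trans (hg _ (pow_pos hp.pos k) ((Nat.le_of_dvd (Nat.pos_of_ne_zero hδ0) hkδ).trans hδN)))
  · rw [Nat.factorization_eq_zero_of_not_prime g hp]; exact Nat.zero_le _

/-- The gcd of the cofactors of the small divisors lies in the group of Hilbert values. -/
theorem gcd_cofactor_mem (S : AddSubgroup ℤ) (d N : ℕ) (hd : 1 ≤ d) (hN : 1 ≤ N)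
    (h : ∀ b : ℤ, Ring.choose b N - Ring.choose (b - d) N ∈ S) :
    ((((Finset.Icc 1 N).filter (fun δ => δ ∣ d)).gcd (fun δ => d / δ) : ℕ) : ℤ) ∈ S := by
  obtain ⟨g, hg⟩ := Int.subgroup_cyclic S
  have hdvd : ∀ i, 1 ≤ i → i ≤ N → g.natAbs ∣ d.choose i := fun i h1 h2 => by
    have h3 := choose_mem S d N h h1 h2
    rw [hg, AddSubgroup.mem_closure_singleton] at h3
    obtain ⟨n, hn⟩ := h3
    exact Int.natCast_dvd_natCast.1 (Int.natAbs_dvd.2 ⟨n, by rw [← hn, smul_eq_mul, mul_comm]⟩)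
  obtain ⟨n, hn⟩ : (g.natAbs : ℕ) ∣ ((Finset.Icc 1 N).filter (fun δ => δ ∣ d)).gcd (fun δ => d / δ) :=
    Finset.dvd_gcd fun δ hδ => by
      simp only [Finset.mem_filter, Finset.mem_Icc] at hδ
      exact dvd_cofactor hdvd hd hN hδ.2 hδ.1.2
  rw [hn, hg, AddSubgroup.mem_closure_singleton]
  rcases Int.natAbs_eq g with h' | h'
  · exact ⟨n, by rw [smul_eq_mul, Nat.cast_mul, ← h']; ring⟩
  · refine ⟨-(n : ℤ), ?_⟩
    conv_lhs => rw [h']
    rw [smul_eq_mul, Nat.cast_mul]; ring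

/-- The degree of a polynomial is a combination of the degrees of extensions with a root. -/
theorem natDegree_mem {K : Type u} [Field K] (S : AddSubgroup ℤ) (f : Polynomial K)
    (hS : ∀ (L : Type u) [Field L] [Algebra K L] [FiniteDimensional K L] (r : L), Polynomial.aeval r f = 0 →
      (Module.finrank K L : ℤ) ∈ S) (hf : f ≠ 0) : (f.natDegree : ℤ) ∈ S := by
  classical
  suffices ∀ g : Polynomial K, g ∣ f → (g.natDegree : ℤ) ∈ S from this f dvd_rfl
  intro g
  induction g using UniqueFactorizationMonoid.induction_on_prime with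
  | h₁ => intro h; exact absurd (zero_dvd_iff.1 h) hf
  | h₂ g hg => intro _; rw [Polynomial.natDegree_eq_zero_of_isUnit hg]; exact S.zero_mem
  | h₃ g q hg hq ih =>
    intro h
    rw [Polynomial.natDegree_mul hq.ne_zero hg, Nat.cast_add]
    refine S.add_mem ?_ (ih ((dvd_mul_left g q).trans h))
    haveI : Fact (Irreducible q) := ⟨hq.irreducible⟩
    haveI : FiniteDimensional K (AdjoinRoot q) := (AdjoinRoot.powerBasis hq.ne_zero).finite
    have := hS (AdjoinRoot q) (AdjoinRoot.root q) (by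
      obtain ⟨c, hc⟩ := (dvd_mul_right q g).trans h
      rw [hc, map_mul, AdjoinRoot.aeval_eq, AdjoinRoot.mk_self, zero_mul])
    rwa [(AdjoinRoot.powerBasis hq.ne_zero).finrank, AdjoinRoot.powerBasis_dim] at this

end Groth.Agent.IndexHyp
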